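import Groth.Agent.GeomIrrSection.Pencil

/-!
# The field of a generic linear section stays separably closed

If `k` is separably closed in the finitely generated extension `K`, and `x₀, …, x_m, ξ = ∑ gᵢxᵢ, y = ∑ cᵢgᵢ`
are algebraically independent, then `k(x, ξ)` is separably closed in `K(x)`.
-/

open Polynomial IntermediateField

namespace Groth.Agent.GeomIrrSection

section Map

variable {F Ω : Type*} [Field F] [Field Ω] [Algebra F Ω]

theorem isSeparable_map (f : Ω →ₐ[F] Ω) (L : IntermediateField F Ω) {β : Ω} (h : IsSeparable L β) :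
    IsSeparable (L.map f) (f β) := by
  let r : L →+* L.map f :=
    (f.toRingHom.comp (algebraMap L Ω)).codRestrict (L.map f).toSubfield.toSubring fun a => ⟨a, a.2, rfl⟩
  have h0 : ((minpoly L β).map r).Separable := Polynomial.Separable.map (f := r) h
  refine Polynomial.Separable.of_dvd h0 (minpoly.dvd _ _ ?_)
  rw [aeval_def, eval₂_map, show (algebraMap (L.map f) Ω).comp r = f.toRingHom.comp (algebraMap L Ω) from rfl]
  have h1 := hom_eval₂ (minpoly L β) (algebraMap L Ω) f.toRingHom β
  rw [← aeval_def, minpoly.aeval, map_zero] at h1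
  exact h1.symm

theorem isSeparable_mono {L L' : IntermediateField F Ω} (hle : L ≤ L') {β : Ω} (h : IsSeparable L β) :
    IsSeparable L' β := by
  letI : Algebra L L' := (IntermediateField.inclusion hle).toAlgebra
  haveI : IsScalarTower L L' Ω := IsScalarTower.of_algebraMap_eq fun _ => rfl
  exact h.tower_top L'

theorem exists_endomorphism (E : IntermediateField F Ω) {t a : Ω} (ht : Transcendental E t)
    (htop : adjoin E {t} = ⊤) (ha : Transcendental E a) : ∃ ψ : Ω →ₐ[E] Ω, ψ t = a := by
  let φ : ∀ s : Ω, Transcendental E s → RatFunc E →ₐ[E] Ω := fun s hs =>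
    RatFunc.liftAlgHom (Polynomial.aeval s) <| by
      intro p hp
      have hp' : p ≠ 0 := nonZeroDivisors.ne_zero hp
      exact mem_nonZeroDivisors_of_ne_zero fun e => hp' (transcendental_iff_injective.mp hs
        (e.trans (map_zero _).symm))
  have hX : ∀ s hs, φ s hs RatFunc.X = s := fun s hs => by
    simp [φ, ← RatFunc.algebraMap_X, RatFunc.liftAlgHom_apply]
  have hb : Function.Bijective (φ t ht) := by
    refine ⟨(φ t ht).injective, fun w => ?_⟩
    have hle : adjoin E {t} ≤ (φ t ht).fieldRange := adjoin_simple_le_iff.mpr ⟨RatFunc.X, hX t ht⟩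
    exact hle (htop ▸ IntermediateField.mem_top)
  refine ⟨(φ a ha).comp (AlgEquiv.ofBijective (φ t ht) hb).symm.toAlgHom, ?_⟩
  have : (AlgEquiv.ofBijective (φ t ht) hb).symm t = RatFunc.X := by
    rw [AlgEquiv.symm_apply_eq]
    exact (hX t ht).symm
  show φ a ha ((AlgEquiv.ofBijective (φ t ht) hb).symm t) = a
  rw [this, hX a ha]

/-- `F(t, z + t y)` is separably closed in `E(t)`. -/
theorem mem_adjoin_pencil (E : IntermediateField F Ω) (hfg : E.FG)
    (hsc : ∀ e ∈ E, IsSeparable F e → e ∈ (⊥ : IntermediateField F Ω)) {t : Ω} (ht : Transcendental E t)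
    (htop : adjoin E {t} = ⊤) {y z : Ω} (hy : y ∈ E) (hz : z ∈ E)
    (hyz : AlgebraicIndependent (adjoin F {t}) ![y, z]) {β : Ω}
    (hβ : IsSeparable (adjoin F {t, z + t * y}) β) : β ∈ adjoin F {t, z + t * y} := by
  let q := ringExpChar F
  set G := adjoin F {t} with hG
  have htG : t ∈ G := mem_adjoin_simple_self F t
  -- `Ω` is finitely generated over `G`, and `G` is separably closed in it
  have hfgG : (⊤ : IntermediateField G Ω).FG := by
    obtain ⟨s, hs, hs'⟩ := fg_def.mp hfg
    refine fg_def.mpr ⟨s, hs, ?_⟩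
    rw [_root_.eq_top_iff]
    intro w _
    have hE : E ≤ (adjoin G s).restrictScalars F := hs' ▸ adjoin_le_iff.mpr (subset_adjoin G s)
    have hw : w ∈ adjoin E {t} := htop ▸ IntermediateField.mem_top
    induction hw using adjoin_induction with
    | mem w hw => obtain rfl := hw; exact (adjoin G s).algebraMap_mem (⟨_, htG⟩ : G)
    | algebraMap w => exact hE w.2
    | add w w' _ _ h h' => exact (adjoin G s).add_mem (h trivial) (h' trivial)
    | inv w _ h => exact (adjoin G s).inv_mem (h trivial)
    | mul w w' _ _ h h' => exact (adjoin G s).mul_mem (h trivial) (h' trivial)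
  have hscG : ∀ e : Ω, IsSeparable G e → e ∈ (⊥ : IntermediateField G Ω) := fun e he =>
    IntermediateField.mem_bot.mpr
      ⟨⟨e, mem_adjoin_of_isSeparable E ht hsc (htop ▸ IntermediateField.mem_top) he⟩, rfl⟩
  -- the parameters
  let a : ℕ → G := fun e => ⟨t, htG⟩ ^ (q ^ e) + (e : G)
  have ha' : ∀ e, (a e : Ω) = aeval t ((X : Polynomial E) ^ (q ^ e) + C (e : E)) := fun e => by
    simp [a]
  have hq : ∀ e, q ^ e ≠ 0 := fun e => pow_ne_zero _ (expChar_pos F q).ne'
  have htr : ∀ e, Transcendental E (a e : Ω) := fun e => by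
    rw [ha']
    exact ht.aeval _ (by rw [natDegree_X_pow_add_C]; exact hq e)
      (mem_nonZeroDivisors_of_ne_zero (leadingCoeff_ne_zero.mpr (X_pow_add_C_ne_zero (Nat.pos_of_ne_zero (hq e)) _)))
  have hinj : Function.Injective a := fun e e' h => by
    have h1 : ((X : Polynomial E) ^ (q ^ e) + C (e : E)) = X ^ (q ^ e') + C (e' : E) :=
      transcendental_iff_injective.mp ht (by rw [← ha', ← ha', h])
    have hd := congrArg natDegree h1
    rw [natDegree_X_pow_add_C, natDegree_X_pow_add_C] at hd
    rcases expChar_is_prime_or_one F q with hp | h1q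
    swap
    · haveI : ExpChar F 1 := h1q ▸ (inferInstance : ExpChar F q)
      haveI : CharZero F := charZero_of_expChar_one' F
      haveI : CharZero E := charZero_of_injective_algebraMap (algebraMap F E).injective
      have h0 := congrArg (fun p => p.coeff 0) h1
      simpa [h1q] using h0
    · exact Nat.pow_right_injective hp.two_le hd
  obtain ⟨_, ⟨e, rfl⟩, hgen⟩ := exists_generic hfgG hscG hyz (Set.infinite_range_of_injective hinj)
  obtain ⟨ψ, hψ⟩ := exists_endomorphism E ht htop (htr e)
  let f : Ω →ₐ[F] Ω := ψ.restrictScalars F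
  have hfy : f y = y := ψ.commutes ⟨y, hy⟩
  have hfz : f z = z := ψ.commutes ⟨z, hz⟩
  set L := adjoin F {t, z + t * y}
  let u : Ω := z + (a e : Ω) * y
  have hmap : L.map f = adjoin F {(a e : Ω), u} := by
    rw [IntermediateField.adjoin_map, Set.image_pair, map_add, map_mul, hfy, hfz,
      show f t = (a e : Ω) from hψ]
  have hsmul : z + a e • y = u := rfl
  rw [hsmul] at hgen
  have hsep : IsSeparable (adjoin F {(a e : Ω), u}) (f β) := hmap ▸ isSeparable_map f L hβ
  have hle : adjoin F {(a e : Ω), u} ≤ (adjoin G {u}).restrictScalars F :=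
    adjoin_le_iff.mpr (Set.insert_subset ((adjoin G {u}).algebraMap_mem (a e))
      (Set.singleton_subset_iff.mpr (mem_adjoin_simple_self G u)))
  have hmem : f β ∈ adjoin G {u} := hgen _ (isSeparable_mono hle hsep)
  -- `F(t, u)` is purely inseparable over `F(a, u)`
  set L' := adjoin F {(a e : Ω), u}
  haveI : ExpChar L' q := expChar_of_injective_algebraMap (algebraMap F _).injective q
  have hpc : f β ∈ perfectClosure L' Ω := by
    have hte : t ∈ perfectClosure L' Ω := by
      refine (mem_perfectClosure_iff_pow_mem q).mpr ⟨e, ⟨⟨(a e : Ω) - (e : Ω), ?_⟩, ?_⟩⟩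
      · exact L'.sub_mem (subset_adjoin _ _ (by simp)) (IntermediateField.natCast_mem L' e)
      · show (a e : Ω) - (e : Ω) = t ^ q ^ e
        simp [a]
    let P := (perfectClosure L' Ω).restrictScalars F
    have hGP : G ≤ P := adjoin_simple_le_iff.mpr hte
    have huP : u ∈ P := (perfectClosure L' Ω).algebraMap_mem (⟨u, subset_adjoin _ _ (by simp)⟩ : L')
    have : ∀ w ∈ adjoin G {u}, w ∈ P := fun w hw => by
      induction hw using adjoin_induction with
      | mem w hw => obtain rfl := hw; exact huP
      | algebraMap w => exact hGP w.2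
      | add w w' _ _ h h' => exact P.add_mem h h'
      | inv w _ h => exact P.inv_mem h
      | mul w w' _ _ h h' => exact P.mul_mem h h'
    exact this _ hmem
  have hbot : f β ∈ (⊥ : IntermediateField L' Ω) :=
    separableClosure_inf_perfectClosure L' Ω ▸ ⟨mem_separableClosure_iff.mpr hsep, hpc⟩
  obtain ⟨c, hc⟩ := IntermediateField.mem_bot.mp hbot
  have : f β ∈ L.map f := hmap ▸ hc ▸ c.2
  obtain ⟨b, hb, hbe⟩ := this
  exact f.injective hbe ▸ hb

end Map

section Main

variable {k K : Type*} [Field k] [Field K] [Algebra k K]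

theorem sepClosed_linear_section {m : ℕ} (hfg : (⊤ : IntermediateField k K).FG)
    (hsc : ∀ a : K, IsSeparable k a → a ∈ Set.range (algebraMap k K))
    (g : Fin (m + 1) → K) (c : Fin (m + 1) → k)
    (x : Fin (m + 1) → FractionRing (MvPolynomial (Fin (m + 1)) K))
    (hx : ∀ i, x i = algebraMap (MvPolynomial (Fin (m + 1)) K) _ (MvPolynomial.X i))
    (ξ y : FractionRing (MvPolynomial (Fin (m + 1)) K)) (hξ : ξ = ∑ i, algebraMap K _ (g i) * x i)
    (hy : y = algebraMap K _ (∑ i, c i • g i))
    (hind : AlgebraicIndependent k (Sum.elim x ![ξ, y]))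
    {β : FractionRing (MvPolynomial (Fin (m + 1)) K)}
    (hβ : IsSeparable (adjoin k (Set.range x ∪ {ξ})) β) : β ∈ adjoin k (Set.range x ∪ {ξ}) := by
  classical
  let N := FractionRing (MvPolynomial (Fin (m + 1)) K)
  -- some coefficient is nonzero
  obtain ⟨i0, hi0⟩ : ∃ i, c i ≠ 0 := by
    by_contra! hc
    have h0 := hind.ne_zero (Sum.inr 1)
    simp [hy, hc] at h0
  -- new variables
  let σ : Fin (m + 1) → MvPolynomial (Fin (m + 1)) K := fun i =>
    if i = i0 then MvPolynomial.C (algebraMap k K (c i0)⁻¹) * MvPolynomial.X i0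
    else MvPolynomial.X i - MvPolynomial.C (algebraMap k K (c i / c i0)) * MvPolynomial.X i0
  let τ : Fin (m + 1) → MvPolynomial (Fin (m + 1)) K := fun i =>
    if i = i0 then MvPolynomial.C (algebraMap k K (c i0)) * MvPolynomial.X i0
    else MvPolynomial.X i + MvPolynomial.C (algebraMap k K (c i)) * MvPolynomial.X i0
  let x' : Fin (m + 1) → N := fun i => algebraMap _ N (σ i)
  let t := x' i0
  have hxK : AlgebraicIndependent K x' := by
    have hcomp : (MvPolynomial.aeval (R := K) x' : MvPolynomial (Fin (m + 1)) K →ₐ[K] N) =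
        (IsScalarTower.toAlgHom K (MvPolynomial (Fin (m + 1)) K) N).comp (MvPolynomial.aeval σ) := by
      apply MvPolynomial.algHom_ext
      intro i
      simp [x']
    have hinv : (MvPolynomial.aeval (R := K) τ).comp (MvPolynomial.aeval σ) = AlgHom.id K _ := by
      apply MvPolynomial.algHom_ext
      intro i
      rcases eq_or_ne i i0 with rfl | hi
      · simp only [σ, τ, AlgHom.comp_apply, MvPolynomial.aeval_X, if_pos, map_mul, MvPolynomial.aeval_C,
          MvPolynomial.algebraMap_eq, AlgHom.id_apply]
        rw [← mul_assoc, ← map_mul, ← map_mul, inv_mul_cancel₀ hi0, map_one, map_one, one_mul]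
      · simp [σ, τ, hi]
        rw [← mul_assoc, ← map_mul, div_mul_cancel₀ _ (by simpa using hi0), add_sub_cancel_right]
    unfold AlgebraicIndependent
    rw [hcomp, AlgHom.coe_comp]
    exact (IsFractionRing.injective _ N).comp fun p p' e => by
      have e' := congrArg (MvPolynomial.aeval (R := K) τ) e
      rw [← AlgHom.comp_apply, ← AlgHom.comp_apply, hinv] at e'
      exact e'
  have hsmul : ∀ (r : k) (i : Fin (m + 1)),
      algebraMap _ N (MvPolynomial.C (algebraMap k K r) * MvPolynomial.X i) = r • x i := fun r i => by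
    rw [map_mul, hx, ← MvPolynomial.algebraMap_eq, ← IsScalarTower.algebraMap_apply,
      ← IsScalarTower.algebraMap_apply, Algebra.smul_def]
  have hx'0 : t = (c i0)⁻¹ • x i0 := by
    show algebraMap _ N (σ i0) = _
    rw [show σ i0 = _ from if_pos rfl, hsmul]
  have hx' : ∀ i, i ≠ i0 → x' i = x i - c i • t := fun i hi => by
    show algebraMap _ N (σ i) = _
    rw [show σ i = _ from if_neg hi, map_sub, hsmul, ← hx, hx'0, smul_smul, ← div_eq_mul_inv]
  have hxt : ∀ i, i ≠ i0 → x i = x' i + c i • t := fun i hi => by rw [hx' i hi]; abel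
  have hx0 : x i0 = c i0 • t := by rw [hx'0, smul_smul, mul_inv_cancel₀ hi0, one_smul]
  -- `k(x'_S)` is separably closed in `K(x'_S)`
  let j : K →ₐ[k] N := IsScalarTower.toAlgHom k K N
  let FS : Finset (Fin (m + 1)) → IntermediateField k N := fun S => adjoin k (x' '' S)
  let ES : Finset (Fin (m + 1)) → IntermediateField k N := fun S => j.fieldRange ⊔ FS S
  have hle : ∀ S, FS S ≤ ES S := fun S => le_sup_right
  have htr : ∀ S i, i ∉ S → Transcendental (extendScalars (hle S)) (x' i) := fun S i hi => by
    have h1 := hxK.transcendental_adjoin (s := ↑S) (i := i) (by simpa using hi)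
    rw [← IntermediateField.transcendental_adjoin_iff (F := K)] at h1
    have hle' : ES S ≤ (adjoin K (x' '' S)).restrictScalars k :=
      sup_le (fun w hw => by obtain ⟨r, rfl⟩ := hw; exact (adjoin K (x' '' S)).algebraMap_mem r)
        (adjoin_le_iff.mpr (subset_adjoin K _))
    letI : Algebra (extendScalars (hle S)) (adjoin K (x' '' S)) :=
      (Subfield.inclusion (show (extendScalars (hle S)).toSubfield ≤ (adjoin K (x' '' S)).toSubfield from hle')).toAlgebra
    haveI : IsScalarTower (extendScalars (hle S)) (adjoin K (x' '' S)) N :=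
      IsScalarTower.of_algebraMap_eq fun _ => rfl
    exact h1.restrictScalars (R := extendScalars (hle S)) (RingHom.injective _)
  have hclosed : ∀ S, ∀ e ∈ ES S, IsSeparable (FS S) e → e ∈ FS S := by
    intro S
    induction S using Finset.induction_on with
    | empty =>
      intro e he hsep
      have hF : FS ∅ = ⊥ := by simp [FS]
      have he' : e ∈ j.fieldRange := by simpa [ES, hF] using he
      obtain ⟨r, hr⟩ := he'
      replace hr : j r = e := hr
      subst hr
      rw [hF] at hsep
      have h1 : IsSeparable k (j r) :=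
        IsSeparable.of_algebra_isSeparable_of_isSeparable k (E := (⊥ : IntermediateField k N)) hsep
      obtain ⟨r', rfl⟩ := hsc r ((isSeparable_map_iff j j.injective).mp h1)
      rw [AlgHom.commutes]
      exact (FS ∅).algebraMap_mem r'
    | insert i S hi ih =>
      intro e he hsep
      let E' := extendScalars (hle S)
      have h1 : e ∈ adjoin E' {x' i} := by
        have : ES (insert i S) ≤ ((adjoin E' {x' i}).restrictScalars (FS S)).restrictScalars k := by
          refine sup_le (fun w hw => ?_) (adjoin_le_iff.mpr ?_)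
          · exact (adjoin E' {x' i}).algebraMap_mem (⟨w, le_sup_left (b := FS S) hw⟩ : E')
          · rintro _ ⟨l, hl, rfl⟩
            rcases Finset.mem_insert.mp (Finset.mem_coe.mp hl) with rfl | hl
            · exact mem_adjoin_simple_self E' (x' l)
            · exact (adjoin E' {x' i}).algebraMap_mem
                (⟨_, hle S (subset_adjoin k _ ⟨l, Finset.mem_coe.mpr hl, rfl⟩)⟩ : E')
        exact this he
      have hEq : (adjoin (FS S) {x' i}).restrictScalars k = FS (insert i S) := by
        simp only [FS]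
        rw [adjoin_adjoin_left, Finset.coe_insert, Set.image_insert_eq, Set.union_singleton]
      have h2 : IsSeparable (adjoin (FS S) {x' i}) e := by
        have := isSeparable_mono hEq.ge hsep
        exact this
      have h3 := mem_adjoin_of_isSeparable (F := FS S) E' (htr S i hi)
        (fun w hw hws => IntermediateField.mem_bot.mpr ⟨⟨w, ih w hw hws⟩, rfl⟩) h1 h2
      exact hEq.le h3
  -- the pencil
  let S := Finset.univ.erase i0
  let F' := FS S
  let E' := extendScalars (hle S)
  let z := ∑ i ∈ S, algebraMap K N (g i) * x' i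
  have hjE : ∀ r : K, algebraMap K N r ∈ E' := fun r => le_sup_left (b := FS S) (show j r ∈ j.fieldRange from ⟨r, rfl⟩)
  have hy' : y ∈ E' := hy ▸ hjE _
  have hz' : z ∈ E' := sum_mem fun i hi =>
    mul_mem (hjE _) (hle S (subset_adjoin k _ ⟨i, Finset.mem_coe.mpr hi, rfl⟩))
  have hξ' : ξ = z + t * y := by
    have hsum : y = ∑ i, c i • algebraMap K N (g i) := by
      rw [hy, map_sum]
      exact Finset.sum_congr rfl fun i _ => map_smul j (c i) (g i)
    rw [hξ, hsum, ← Finset.add_sum_erase _ _ (Finset.mem_univ i0),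
      ← Finset.add_sum_erase _ _ (Finset.mem_univ i0), mul_add, Finset.mul_sum, hx0,
      show z + (t * (c i0 • algebraMap K N (g i0)) + ∑ i ∈ S, t * (c i • algebraMap K N (g i))) =
        t * (c i0 • algebraMap K N (g i0)) + (z + ∑ i ∈ S, t * (c i • algebraMap K N (g i))) by abel,
      ← Finset.sum_add_distrib]
    congr 1
    · rw [mul_smul_comm, mul_smul_comm, mul_comm]
    · refine Finset.sum_congr rfl fun i hi => ?_
      rw [hxt i (Finset.ne_of_mem_erase hi), mul_add, mul_smul_comm, mul_smul_comm, mul_comm t]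
  have hx'mem : ∀ (P : IntermediateField k N), (∀ i, x i ∈ P) → ∀ i, x' i ∈ P := fun P hP i => by
    have ht : t ∈ P := hx'0 ▸ P.smul_mem (hP i0)
    rcases eq_or_ne i i0 with rfl | hi
    · exact ht
    · exact hx' i hi ▸ P.sub_mem (hP i) (P.smul_mem ht)
  have hxmem : ∀ (P : IntermediateField k N), F' ≤ P → t ∈ P → ∀ i, x i ∈ P := fun P hP ht i => by
    rcases eq_or_ne i i0 with rfl | hi
    · exact hx0 ▸ P.smul_mem ht
    · exact hxt i hi ▸ P.add_mem (hP (subset_adjoin k _ ⟨i, by simp [S, hi], rfl⟩)) (P.smul_mem ht)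
  have hfg' : E'.FG := by
    obtain ⟨s, hs, hs'⟩ := fg_def.mp hfg
    refine fg_def.mpr ⟨j '' s, hs.image j, le_antisymm (adjoin_le_iff.mpr ?_) fun w hw => ?_⟩
    · rintro _ ⟨r, -, rfl⟩; exact hjE r
    · have : ES S ≤ (adjoin F' (j '' s)).restrictScalars k := by
        refine sup_le ?_ fun w hw => (adjoin F' (j '' s)).algebraMap_mem (⟨w, hw⟩ : F')
        rw [AlgHom.fieldRange_eq_map, ← hs', adjoin_map]
        exact adjoin_le_iff.mpr (subset_adjoin F' _)
      exact this hw
  have htop : adjoin E' {t} = ⊤ := by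
    rw [_root_.eq_top_iff]
    intro w _
    let P := adjoin E' {t}
    have hxP : ∀ i, x i ∈ P := hxmem ((P.restrictScalars F').restrictScalars k)
      (fun w hw => P.algebraMap_mem (⟨w, hle S hw⟩ : E')) (mem_adjoin_simple_self E' t)
    have hpol : ∀ p : MvPolynomial (Fin (m + 1)) K, algebraMap _ N p ∈ P := fun p => by
      induction p using MvPolynomial.induction_on with
      | C r =>
        rw [← MvPolynomial.algebraMap_eq, ← IsScalarTower.algebraMap_apply]
        exact P.algebraMap_mem (⟨_, hjE r⟩ : E')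
      | add p q hp hq => rw [map_add]; exact P.add_mem hp hq
      | mul_X p i hp => rw [map_mul, ← hx]; exact P.mul_mem hp (hxP i)
    obtain ⟨p, q, -, rfl⟩ := IsFractionRing.div_surjective (MvPolynomial (Fin (m + 1)) K) w
    exact P.div_mem (hpol p) (hpol q)
  have hyz : AlgebraicIndependent (adjoin F' {t}) ![y, z] := by
    have h1 : AlgebraicIndependent k (Sum.elim ![ξ, y] x) := by
      have h0 := hind.comp Sum.swap Sum.swap_leftInverse.injective
      convert h0 using 1
      funext o
      rcases o with o | o <;> rfl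
    have h2 : AlgebraicIndependent (adjoin k (Set.range x)) ![ξ, y] :=
      IntermediateField.algebraicIndependent_adjoin_iff.mpr (AlgebraicIndependent.sumElim_iff.mp h1).2
    have hle' : (adjoin F' {t}).restrictScalars k ≤ adjoin k (Set.range x) := by
      rw [adjoin_adjoin_left]
      refine adjoin_le_iff.mpr (Set.union_subset ?_ (Set.singleton_subset_iff.mpr ?_))
      · rintro _ ⟨i, -, rfl⟩
        exact hx'mem _ (fun l => subset_adjoin k (Set.range x) ⟨l, rfl⟩) i
      · exact hx'mem _ (fun l => subset_adjoin k (Set.range x) ⟨l, rfl⟩) i0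
    letI : Algebra (adjoin F' {t}) (adjoin k (Set.range x)) :=
      (Subfield.inclusion (show (adjoin F' {t}).toSubfield ≤ (adjoin k (Set.range x)).toSubfield from hle')).toAlgebra
    haveI : IsScalarTower (adjoin F' {t}) (adjoin k (Set.range x)) N := IsScalarTower.of_algebraMap_eq fun _ => rfl
    let tG : adjoin F' {t} := ⟨t, mem_adjoin_simple_self F' t⟩
    have h3 := indep_pair_affine (indep_pair_swap
      (h2.restrictScalars (R := adjoin F' {t}) (RingHom.injective _))) one_ne_zero
      (-tG)
    have hzξ : (1 : adjoin F' {t}) • ξ + (-tG) • y = z := by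
      show _ + (-t) * y = z
      rw [one_smul, hξ']; ring
    rwa [hzξ] at h3
  have hL : (adjoin F' {t, z + t * y}).restrictScalars k = adjoin k (Set.range x ∪ {ξ}) := by
    rw [← hξ']
    apply le_antisymm
    · rw [adjoin_adjoin_left]
      have hP : ∀ l, x l ∈ adjoin k (Set.range x ∪ {ξ}) := fun l => subset_adjoin k _ (Or.inl ⟨l, rfl⟩)
      refine adjoin_le_iff.mpr (Set.union_subset ?_ (Set.insert_subset ?_ (Set.singleton_subset_iff.mpr ?_)))
      · rintro _ ⟨i, -, rfl⟩
        exact hx'mem _ hP i
      · exact hx'mem _ hP i0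
      · exact subset_adjoin k _ (Or.inr rfl)
    · refine adjoin_le_iff.mpr (Set.union_subset ?_ (Set.singleton_subset_iff.mpr ?_))
      · rintro _ ⟨i, rfl⟩
        exact hxmem _ (fun w hw => (adjoin F' {t, ξ}).algebraMap_mem (⟨w, hw⟩ : F'))
          (subset_adjoin F' _ (by simp)) i
      · exact subset_adjoin F' _ (by simp)
  have hres : β ∈ adjoin F' {t, z + t * y} :=
    mem_adjoin_pencil E' hfg' (fun w hw hws => IntermediateField.mem_bot.mpr ⟨⟨w, hclosed S w hw hws⟩, rfl⟩)
      (htr S i0 (by simp [S])) htop hy' hz' hyz (isSeparable_mono hL.ge hβ)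
  exact hL.le hres

end Main

end Groth.Agent.GeomIrrSection
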