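import Groth.Agent.GeomIrrSection.Rat
import Groth.Agent.GeomIrrSection.FinAlg

/-!
# A generic member of a pencil generates a separably closed subfield
-/

open Polynomial IntermediateField

namespace Groth.Agent.GeomIrrSection

variable {G Ω : Type*} [Field G] [Field Ω] [Algebra G Ω]

theorem indep_pair_affine {x y : Ω} (h : AlgebraicIndependent G ![x, y]) {p : G} (hp : p ≠ 0) (q : G) :
    AlgebraicIndependent G ![x, p • y + q • x] := by
  let f : MvPolynomial (Fin 2) G →ₐ[G] MvPolynomial (Fin 2) G :=
    MvPolynomial.aeval ![MvPolynomial.X 0, p • MvPolynomial.X 1 + q • MvPolynomial.X 0]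
  let g : MvPolynomial (Fin 2) G →ₐ[G] MvPolynomial (Fin 2) G :=
    MvPolynomial.aeval ![MvPolynomial.X 0, p⁻¹ • (MvPolynomial.X 1 - q • MvPolynomial.X 0)]
  have hgf : g.comp f = AlgHom.id G _ := by
    apply MvPolynomial.algHom_ext
    intro i
    fin_cases i
    · simp [f, g]
    · simp [f, g, smul_smul, mul_inv_cancel₀ hp]
  have hfi : Function.Injective f := fun a b e => by
    simpa [← AlgHom.comp_apply, hgf] using congrArg g e
  have he : MvPolynomial.aeval (R := G) ![x, p • y + q • x] = (MvPolynomial.aeval ![x, y]).comp f := by
    apply MvPolynomial.algHom_ext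
    intro i
    fin_cases i <;> simp [f]
  unfold AlgebraicIndependent
  rw [he, AlgHom.coe_comp]
  exact Function.Injective.comp h hfi

theorem indep_pair_swap {x y : Ω} (h : AlgebraicIndependent G ![x, y]) : AlgebraicIndependent G ![y, x] := by
  convert h.comp ![(1 : Fin 2), 0] (by decide) using 1
  funext i
  fin_cases i <;> rfl

/-- A member of an algebraically independent pair is transcendental over the field generated by the other
and everything algebraic over it. -/
theorem transcendental_algebraicClosure {x y : Ω} (h : AlgebraicIndependent G ![x, y]) :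
    Transcendental ((algebraicClosure (adjoin G {x}) Ω).restrictScalars G) y := by
  have h1 : Transcendental (Algebra.adjoin G {x}) y := by
    have h0 := h.transcendental_adjoin (s := {0}) (i := 1) (by simp)
    rw [Set.image_singleton] at h0
    exact h0
  rw [← IntermediateField.transcendental_adjoin_iff (F := G)] at h1
  exact h1.extendScalars (algebraicClosure (adjoin G {x}) Ω)

/-- If `G` is separably closed in the finitely generated extension `Ω` and `y`, `z` are algebraically
independent, then in any infinite set of parameters some `a` makes `G(z + a y)` separably closed in `Ω`. -/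
theorem exists_generic (hfg : (⊤ : IntermediateField G Ω).FG)
    (hsc : ∀ e : Ω, IsSeparable G e → e ∈ (⊥ : IntermediateField G Ω))
    {y z : Ω} (hyz : AlgebraicIndependent G ![y, z]) {S : Set G} (hS : S.Infinite) :
    ∃ a ∈ S, ∀ β : Ω, IsSeparable (adjoin G {z + a • y}) β → β ∈ adjoin G {z + a • y} := by
  set K := adjoin G ({y, z} : Set Ω) with hK
  have hKfg : (⊤ : IntermediateField K Ω).FG := by
    obtain ⟨s, hs, hs'⟩ := fg_def.mp hfg
    refine fg_def.mpr ⟨s, hs, ?_⟩
    rw [_root_.eq_top_iff]
    intro x _
    exact (adjoin_le_iff.mpr (subset_adjoin K s) : adjoin G s ≤ (adjoin K s).restrictScalars G)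
      (hs' ▸ mem_top)
  haveI := finiteDimensional_algebraicClosure K Ω hKfg
  set W := separableClosure K Ω
  have hWle : W ≤ algebraicClosure K Ω := fun w hw =>
    mem_algebraicClosure_iff.mpr (mem_separableClosure_iff.mp hw).isIntegral.isAlgebraic
  haveI : FiniteDimensional K W :=
    FiniteDimensional.of_injective (IntermediateField.inclusion hWle).toLinearMap
      (IntermediateField.inclusion hWle).injective
  haveI : Finite (IntermediateField K W) :=
    Field.finite_intermediateField_of_exists_primitive_element K W (Field.exists_primitive_element K W)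
  let u : G → Ω := fun a => z + a • y
  have hle : ∀ a, adjoin G {u a} ≤ K := fun a => adjoin_simple_le_iff.mpr
    (K.add_mem (subset_adjoin _ _ (by simp)) (K.smul_mem (subset_adjoin _ _ (by simp))))
  let M : G → IntermediateField K Ω := fun a => adjoin K {α | IsSeparable (adjoin G {u a}) α}
  have hM : ∀ a, M a ≤ W := fun a => adjoin_le_iff.mpr fun α (hα : IsSeparable (adjoin G {u a}) α) => by
    letI : Algebra (adjoin G {u a}) K := (IntermediateField.inclusion (hle a)).toAlgebra
    haveI : IsScalarTower (adjoin G {u a}) K Ω := IsScalarTower.of_algebraMap_eq fun _ => rfl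
    exact mem_separableClosure_iff.mpr (hα.tower_top K)
  have hrest : ∀ a, IntermediateField.restrict (hM a) ∈ (Set.univ : Set (IntermediateField K W)) :=
    fun a => Set.mem_univ _
  obtain ⟨a, ha, b, hb, hne, heq⟩ := hS.exists_ne_map_eq_of_mapsTo
    (f := fun a => IntermediateField.restrict (hM a)) (fun a _ => hrest a) Set.finite_univ
  have hMab : M a = M b := by
    rw [← IntermediateField.lift_restrict (hM a), ← IntermediateField.lift_restrict (hM b), heq]
  refine ⟨a, ha, fun β hβ => ?_⟩
  have h1 : AlgebraicIndependent G ![y, u a] := by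
    simpa [u] using indep_pair_affine hyz one_ne_zero a
  have hba : b - a ≠ 0 := sub_ne_zero.mpr hne.symm
  have hub : u b = (b - a) • y + (1 : G) • u a := by
    simp only [u, sub_smul, one_smul]
    abel
  have h2 : AlgebraicIndependent G ![u b, u a] :=
    indep_pair_swap (hub ▸ indep_pair_affine (indep_pair_swap h1) hba 1)
  let E := (algebraicClosure (adjoin G {u b}) Ω).restrictScalars G
  have htr : Transcendental E (u a) := transcendental_algebraicClosure h2
  refine mem_adjoin_of_isSeparable E htr (fun e _ he => hsc e he) ?_ hβ
  let P := (adjoin E {u a}).restrictScalars G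
  have hua : u a ∈ P := mem_adjoin_simple_self E (u a)
  have hub' : u b ∈ P := (adjoin E {u a}).algebraMap_mem (⟨u b, (algebraicClosure _ Ω).algebraMap_mem
    (⟨u b, mem_adjoin_simple_self G (u b)⟩ : adjoin G {u b})⟩ : E)
  have hy : y ∈ P := by
    have : y = (b - a)⁻¹ • (u b - u a) := by
      rw [hub, one_smul, add_sub_cancel_right, smul_smul, inv_mul_cancel₀ hba, one_smul]
    rw [this]
    exact P.smul_mem (P.sub_mem hub' hua)
  have hz : z ∈ P := by
    have : z = u a - a • y := by simp [u]
    rw [this]
    exact P.sub_mem hua (P.smul_mem hy)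
  have hKP : K ≤ P := adjoin_le_iff.mpr (Set.insert_subset hy (Set.singleton_subset_iff.mpr hz))
  have hMP : ∀ x ∈ M b, x ∈ P := fun x hx => by
    induction hx using adjoin_induction with
    | mem x hx =>
      exact (adjoin E {u a}).algebraMap_mem
        (⟨x, mem_algebraicClosure_iff.mpr (IsSeparable.isIntegral hx).isAlgebraic⟩ : E)
    | algebraMap x => exact hKP x.2
    | add x y _ _ hx hy => exact P.add_mem hx hy
    | inv x _ hx => exact P.inv_mem hx
    | mul x y _ _ hx hy => exact P.mul_mem hx hy
  exact hMP β (hMab ▸ subset_adjoin K _ hβ)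

end Groth.Agent.GeomIrrSection
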