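import Mathlib

/-!
# Separably closed subfields stay separably closed in rational function fields

If `E` is a field extension of `F`, with `u` transcendental over `E`, elements of `E(u)` algebraic over
`F(u)` are rational functions with coefficients algebraic over `F`; hence if `F` is separably closed in `E`,
then `F(u)` is separably closed in `E(u)`.
-/

open Polynomial IntermediateField

namespace Groth.Agent.GeomIrrSection

variable {F Ω : Type*} [Field F] [Field Ω] [Algebra F Ω]

/-- A nonzero algebraic relation of `v` over `F(u)` can be cleared to polynomials in `u`. -/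
theorem exists_relation {u v : Ω} (h : IsAlgebraic (adjoin F {u}) v) :
    ∃ H : Polynomial (Polynomial F), H ≠ 0 ∧ H.eval₂ (aeval u).toRingHom v = 0 := by
  rw [IntermediateField.isAlgebraic_adjoin_iff] at h
  obtain ⟨p, hp, hp0⟩ := h
  let f : Polynomial F →+* Algebra.adjoin F {u} :=
    ((aeval u).codRestrict (Algebra.adjoin F {u}) fun q => aeval_mem_adjoin_singleton F u).toRingHom
  have hf : Function.Surjective f := by
    rintro ⟨x, hx⟩
    rw [Algebra.adjoin_singleton_eq_range_aeval] at hx
    obtain ⟨q, rfl⟩ := hx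
    exact ⟨q, rfl⟩
  obtain ⟨H, rfl⟩ := map_surjective f hf p
  refine ⟨H, fun e => hp (by rw [e, Polynomial.map_zero]), ?_⟩
  rw [aeval_def, eval₂_map] at hp0
  exact hp0

/-- The constant coefficient of a polynomial in `u` which is algebraic over `F(u)` is algebraic over `F`. -/
theorem isAlgebraic_coeff_zero (E : IntermediateField F Ω) {u : Ω} (hu : Transcendental E u)
    (B : Polynomial E) (h : IsAlgebraic (adjoin F {u}) (aeval u B)) :
    IsAlgebraic F ((B.coeff 0 : E) : Ω) := by
  obtain ⟨H, hH, hH0⟩ := exists_relation h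
  obtain ⟨n, H', hH', rfl⟩ := WfDvdMonoid.max_power_factor hH
    ((prime_C_iff.mpr (prime_X (R := F))).irreducible)
  let φ : Polynomial F →+* Polynomial E := mapRingHom (algebraMap F E)
  have hu0 : u ≠ 0 := fun e => hu (e ▸ isAlgebraic_zero)
  have hev : (aeval (R := F) u).toRingHom = (aeval (R := E) u).toRingHom.comp φ :=
    RingHom.ext fun q => (aeval_map_algebraMap E u q).symm
  rw [eval₂_mul, eval₂_pow, eval₂_C, AlgHom.toRingHom_eq_coe, RingHom.coe_coe, aeval_X,
    mul_eq_zero, or_iff_right (pow_ne_zero _ hu0)] at hH0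
  have h1 : H'.eval₂ φ B = 0 := by
    refine transcendental_iff_injective.mp hu ?_
    rw [map_zero, ← hH0, ← AlgHom.toRingHom_eq_coe, hev]
    exact hom_eval₂ H' φ (aeval (R := E) u).toRingHom B
  have h2 := congrArg (evalRingHom (0 : E)) h1
  rw [hom_eval₂, map_zero] at h2
  refine ⟨H'.map (evalRingHom 0), fun e => hH' ?_, ?_⟩
  · refine (C_dvd_iff_dvd_coeff _ _).mpr fun i => X_dvd_iff.mpr ?_
    have := congrArg (fun p => p.coeff i) e
    simpa [coeff_map, ← coeff_zero_eq_eval_zero] using this
  · have h3 : (evalRingHom (0 : E)).comp φ = (algebraMap F E).comp (evalRingHom 0) := by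
      apply Polynomial.ringHom_ext
      · intro a; simp [φ]
      · simp [φ]
    rw [h3, show (evalRingHom (0 : E)) B = B.coeff 0 from (coeff_zero_eq_eval_zero B).symm,
      ← eval₂_map] at h2
    rw [show ((B.coeff 0 : E) : Ω) = algebraMap E Ω (B.coeff 0) from rfl, aeval_algebraMap_apply,
      aeval_def, h2, map_zero]

/-- All coefficients of a polynomial in `u` which is algebraic over `F(u)` are algebraic over `F`. -/
theorem isAlgebraic_coeff (E : IntermediateField F Ω) {u : Ω} (hu : Transcendental E u)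
    (i : ℕ) : ∀ (B : Polynomial E), IsAlgebraic (adjoin F {u}) (aeval u B) →
      IsAlgebraic F ((B.coeff i : E) : Ω) := by
  induction i with
  | zero => exact fun B h => isAlgebraic_coeff_zero E hu B h
  | succ i ih =>
    intro B h
    have h0 := (isAlgebraic_coeff_zero E hu B h).tower_top (L := adjoin F {u})
    have hu0 : u ≠ 0 := fun e => hu (e ▸ isAlgebraic_zero)
    have hu1 : IsAlgebraic (adjoin F {u}) u⁻¹ :=
      (isAlgebraic_algebraMap (⟨u, mem_adjoin_simple_self F u⟩ : adjoin F {u})).inv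
    have e : aeval u B.divX = (aeval u B - ((B.coeff 0 : E) : Ω)) * u⁻¹ := by
      have h2 : u * aeval u B.divX + ((B.coeff 0 : E) : Ω) = aeval u B := by
        have h3 := congrArg (aeval u) B.X_mul_divX_add
        rwa [map_add, map_mul, aeval_X, aeval_C] at h3
      rw [eq_mul_inv_iff_mul_eq₀ hu0, eq_sub_iff_add_eq, mul_comm, h2]
    rw [← coeff_divX]
    exact ih B.divX (e ▸ (h.sub h0).mul hu1)

/-- A field containing `u` and the elements of `E` algebraic over `F` contains all elements of `E(u)`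
algebraic over `F(u)`. -/
theorem mem_of_isAlgebraic (E : IntermediateField F Ω) {u : Ω} (hu : Transcendental E u) {α : Ω}
    (hα : α ∈ adjoin E {u}) (halg : IsAlgebraic (adjoin F {u}) α) (P : IntermediateField F Ω)
    (huP : u ∈ P) (hP : ∀ e ∈ E, IsAlgebraic F e → e ∈ P) : α ∈ P := by
  have hinj := transcendental_iff_injective.mp hu
  have hnz : ∀ b : Polynomial E, b ≠ 0 → aeval u b ≠ 0 := fun b hb e =>
    hb (hinj (e.trans (map_zero _).symm))
  have hpoly : ∀ q : Polynomial F, aeval u q ∈ adjoin F {u} := fun q =>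
    algebra_adjoin_le_adjoin F _ (aeval_mem_adjoin_singleton F u)
  obtain ⟨P0, Q0, hPQ⟩ := (mem_adjoin_simple_iff E α).mp hα
  by_cases hα0 : α = 0
  · exact hα0 ▸ P.zero_mem
  have hQ0 : Q0 ≠ 0 := by rintro rfl; simp [hPQ] at hα0
  -- coprime numerator and denominator
  obtain ⟨P1, Q1, hco, hQ1, hα1⟩ : ∃ P1 Q1 : Polynomial E, IsCoprime P1 Q1 ∧ Q1 ≠ 0 ∧
      α * aeval u Q1 = aeval u P1 := by
    classical
    let g := EuclideanDomain.gcd P0 Q0
    have hg : g ≠ 0 := fun e => hQ0 (EuclideanDomain.gcd_eq_zero_iff.mp e).2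
    obtain ⟨P1, hP1⟩ := EuclideanDomain.gcd_dvd_left P0 Q0
    obtain ⟨Q1, hQ1⟩ := EuclideanDomain.gcd_dvd_right P0 Q0
    refine ⟨P1, Q1, ?_, fun e => hQ0 (by rw [hQ1, e, mul_zero]), ?_⟩
    · refine ⟨EuclideanDomain.gcdA P0 Q0, EuclideanDomain.gcdB P0 Q0, ?_⟩
      apply mul_left_cancel₀ hg
      calc g * (EuclideanDomain.gcdA P0 Q0 * P1 + EuclideanDomain.gcdB P0 Q0 * Q1)
          = (g * P1) * EuclideanDomain.gcdA P0 Q0 + (g * Q1) * EuclideanDomain.gcdB P0 Q0 := by ring
        _ = P0 * EuclideanDomain.gcdA P0 Q0 + Q0 * EuclideanDomain.gcdB P0 Q0 := by rw [← hP1, ← hQ1]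
        _ = g * 1 := by rw [mul_one]; exact (EuclideanDomain.gcd_eq_gcd_ab P0 Q0).symm
    · apply mul_left_cancel₀ (hnz g hg)
      calc aeval u g * (α * aeval u Q1) = α * aeval u Q0 := by rw [hQ1, map_mul]; ring
        _ = aeval u P0 := by rw [hPQ, div_mul_cancel₀ _ (hnz _ hQ0)]
        _ = aeval u g * aeval u P1 := by rw [hP1, map_mul]
  obtain ⟨H, hH, hH0⟩ := exists_relation halg
  set φ : Polynomial F →+* Polynomial E := mapRingHom (algebraMap F E) with hφ
  -- the denominator divides a polynomial with coefficients in `F`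
  set d := H.natDegree
  have hd : φ (H.coeff d) ≠ 0 := fun e => hH (leadingCoeff_eq_zero.mp
    ((map_eq_zero_iff φ (map_injective _ (algebraMap F E).injective)).mp e))
  have hsum : ∑ i ∈ Finset.range (d + 1), φ (H.coeff i) * P1 ^ i * Q1 ^ (d - i) = 0 := by
    apply hinj
    rw [map_sum, map_zero]
    have : ∀ i ∈ Finset.range (d + 1), aeval (R := E) u (φ (H.coeff i) * P1 ^ i * Q1 ^ (d - i)) =
        aeval u Q1 ^ d * (aeval (R := F) u (H.coeff i) * α ^ i) := by
      intro i hi
      simp only [map_mul, map_pow, hφ, coe_mapRingHom, aeval_map_algebraMap, ← hα1, mul_pow]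
      rw [← Nat.add_sub_cancel' (Nat.lt_succ_iff.mp (Finset.mem_range.mp hi)), pow_add,
        Nat.add_sub_cancel_left]
      ring
    rw [Finset.sum_congr rfl this, ← Finset.mul_sum]
    rw [eval₂_eq_sum_range] at hH0
    simp only [AlgHom.toRingHom_eq_coe, RingHom.coe_coe] at hH0
    rw [hH0, mul_zero]
  have hdvd : Q1 ∣ φ (H.coeff d) := by
    rw [Finset.sum_range_succ, Nat.sub_self, pow_zero, mul_one, add_comm] at hsum
    have : Q1 ∣ φ (H.coeff d) * P1 ^ d := by
      rw [eq_neg_of_add_eq_zero_left hsum, dvd_neg]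
      refine Finset.dvd_sum fun i hi => ?_
      exact (dvd_pow_self Q1 (by have := Finset.mem_range.mp hi; omega)).mul_left _
    exact hco.symm.pow_right.dvd_of_dvd_mul_right this
  obtain ⟨R, hR⟩ := hdvd
  set D : Ω := aeval (R := F) u (H.coeff d) with hDdef
  have hDE : aeval (R := E) u (φ (H.coeff d)) = D := aeval_map_algebraMap E u _
  have hD : D ≠ 0 := hDE ▸ hnz _ hd
  have hB : aeval u (P1 * R) = α * D := by
    rw [← hDE, hR, map_mul, map_mul, ← mul_assoc, hα1]
  have hBalg : IsAlgebraic (adjoin F {u}) (aeval u (P1 * R)) :=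
    hB ▸ halg.mul (isAlgebraic_algebraMap (⟨D, hpoly _⟩ : adjoin F {u}))
  have hDP : D ∈ P := (adjoin_simple_le_iff.mpr huP) (hpoly _)
  have hBP : aeval u (P1 * R) ∈ P := by
    rw [aeval_eq_sum_range]
    refine sum_mem fun i _ => ?_
    rw [Algebra.smul_def]
    exact P.mul_mem (hP _ ((P1 * R).coeff i).2 (isAlgebraic_coeff E hu i _ hBalg)) (pow_mem huP i)
  have : α = aeval u (P1 * R) * D⁻¹ := by rw [hB, mul_inv_cancel_right₀ hD]
  exact this ▸ P.mul_mem hBP (P.inv_mem hDP)

/-- If `F` is separably closed in `E` and `u` is transcendental over `E`, then `F(u)` is separably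
closed in `E(u)`. -/
theorem mem_adjoin_of_isSeparable (E : IntermediateField F Ω) {u : Ω} (hu : Transcendental E u)
    (hE : ∀ e ∈ E, IsSeparable F e → e ∈ (⊥ : IntermediateField F Ω)) {α : Ω}
    (hα : α ∈ adjoin E {u}) (hsep : IsSeparable (adjoin F {u}) α) : α ∈ adjoin F {u} := by
  let q := ringExpChar F
  haveI : ExpChar (adjoin F {u}) q := expChar_of_injective_algebraMap (algebraMap F _).injective q
  let P := (perfectClosure (adjoin F {u}) Ω).restrictScalars F
  have h1 : α ∈ perfectClosure (adjoin F {u}) Ω := by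
    refine mem_of_isAlgebraic E hu hα hsep.isIntegral.isAlgebraic P ?_ fun e he halg => ?_
    · exact (perfectClosure (adjoin F {u}) Ω).algebraMap_mem
        (⟨u, mem_adjoin_simple_self F u⟩ : adjoin F {u})
    · obtain ⟨g, hg, n, hn⟩ := Irreducible.hasSeparableContraction q (minpoly.irreducible halg.isIntegral)
      have he' : aeval (e ^ q ^ n) g = 0 := by
        rw [← expand_aeval, hn, minpoly.aeval]
      have := hE _ (pow_mem he _) (hg.of_dvd (minpoly.dvd F _ he'))
      obtain ⟨c, hc⟩ := IntermediateField.mem_bot.mp this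
      exact (mem_perfectClosure_iff_pow_mem q).mpr ⟨n, algebraMap F _ c, hc⟩
  have h2 : α ∈ separableClosure (adjoin F {u}) Ω := mem_separableClosure_iff.mpr hsep
  have h3 : α ∈ (⊥ : IntermediateField (adjoin F {u}) Ω) :=
    separableClosure_inf_perfectClosure (adjoin F {u}) Ω ▸ ⟨h2, h1⟩
  obtain ⟨c, rfl⟩ := IntermediateField.mem_bot.mp h3
  exact c.2

end Groth.Agent.GeomIrrSection
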